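import Mathlib
import Groth.Agent.Lib.Helper24.Cat.UCScheme
import Groth.Agent.Lib.Helper24.Cat.Space
import Groth.Agent.Lib.Helper24.Cat.DimFunKrull
import Groth.Agent.Lib.Helper24.LocalDim.Top
import Groth.Prelude.Def_Cyc

/-!
# The dimension function `t ↦ dim closure {t}` on a Jacobson, universally catenary scheme with
equidimensional components (helper24)
-/

set_option autoImplicit false
set_option linter.style.haveILetI false
universe u
open AlgebraicGeometry CategoryTheory TopologicalSpace Topology
open Groth.Agent.Lib.Helper24 Groth.Agent.Lib.Helper26.CatOrder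
open Groth.Agent.Lib.Helper24.DimFunKrull

namespace Groth.Agent.Lib.Helper24.JacDim

section Top

variable {S : Type u} [TopologicalSpace S] [QuasiSober S] [T0Space S]

theorem cl_le_cl_iff {x y : S} : cl x ≤ cl y ↔ y ⤳ x := by
  show closure {x} ⊆ closure {y} ↔ _
  rw [← specializes_iff_closure_subset]

theorem cl_le_iff {x : S} {T : IrreducibleCloseds S} : cl x ≤ T ↔ x ∈ (T : Set S) := by
  constructor
  · intro h
    exact h (subset_closure rfl)
  · intro h
    show closure {x} ⊆ (T : Set S)
    exact T.isClosed'.closure_subset_iff.mpr (Set.singleton_subset_iff.mpr h)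

theorem cl_gp (T : IrreducibleCloseds S) : cl (gp T) = T := by
  apply SetLike.coe_injective
  exact closure_gp T

/-- The set of generizations of `s` inside a closed set is quasi-sober. -/
theorem quasiSober_gen (T' : Set S) (hT' : IsClosed T') (s : S) :
    QuasiSober ↥{t : S | t ∈ T' ∧ t ⤳ s} := by
  constructor
  intro C hirr hclosed
  have hirr' : IsIrreducible (Subtype.val '' C) := hirr.image _ continuous_subtype_val.continuousOn
  set g : S := hirr'.closure.genericPoint with hg
  have hgen : IsGenericPoint g (closure (Subtype.val '' C)) := by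
    have := hirr'.closure.isGenericPoint_genericPoint_closure
    rwa [closure_closure] at this
  have hsub : closure (Subtype.val '' C) ⊆ T' := by
    apply hT'.closure_subset_iff.mpr
    rintro _ ⟨t, -, rfl⟩
    exact t.2.1
  have hgT : g ∈ T' := hsub hgen.mem
  obtain ⟨t, ht⟩ := hirr.nonempty
  have hgt : g ⤳ t.1 := hgen.specializes (subset_closure ⟨t, ht, rfl⟩)
  have hgs : g ⤳ s := hgt.trans t.2.2
  refine ⟨⟨g, hgT, hgs⟩, ?_⟩
  show closure {(⟨g, hgT, hgs⟩ : ↥{t : S | t ∈ T' ∧ t ⤳ s})} = C
  rw [Topology.IsInducing.subtypeVal.closure_eq_preimage_closure_image, Set.image_singleton,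
    hgen.def]
  have h2 := Topology.IsInducing.subtypeVal.closure_eq_preimage_closure_image C
  rw [hclosed.closure_eq] at h2
  exact h2.symm

/-- The dimension of the set of generizations of `s` inside an irreducible closed set `T'` is the
codimension of `s` in `T'`. -/
theorem dim_gen_eq_cod (T' : IrreducibleCloseds S) (s : S) (hs : s ∈ (T' : Set S))
    (hfin : cod (cl s) T' ≠ ⊤) :
    topologicalKrullDim ↥{t : S | t ∈ (T' : Set S) ∧ t ⤳ s} =
      ((cod (cl s) T' : ℕ∞) : WithBot ℕ∞) := by
  haveI := quasiSober_gen (T' : Set S) T'.isClosed' s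
  apply le_antisymm
  · apply LocalDim.dim_le_of_specializing_chains
    intro m c hc
    let a : Fin (m + 1) → IrreducibleCloseds S := fun i => cl (c i.rev).1
    have ha : StrictMono a := by
      rw [Fin.strictMono_iff_lt_succ]
      intro i
      obtain ⟨h1, h2⟩ := hc i.rev
      rw [← Fin.rev_succ, ← Fin.rev_castSucc] at h1 h2
      show cl (c i.castSucc.rev).1 < cl (c i.succ.rev).1
      rw [lt_iff_le_not_ge, cl_le_cl_iff, cl_le_cl_iff]
      refine ⟨h1.map continuous_subtype_val, fun h3 => h2 ?_⟩
      exact Topology.IsInducing.subtypeVal.specializes_iff.mp h3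
    let l : LTSeries (IrreducibleCloseds S) := LTSeries.mk m a ha
    have hhead : cl s ≤ l.head := by
      show cl s ≤ cl (c (Fin.rev 0)).1
      rw [cl_le_cl_iff]
      exact (c (Fin.rev 0)).2.2
    have hlast : l.last ≤ T' := by
      show cl (c (Fin.rev (Fin.last m))).1 ≤ T'
      rw [cl_le_iff]
      exact (c (Fin.rev (Fin.last m))).2.1
    have hm : (m : ℕ∞) ≤ cod (cl s) T' := by
      rcases eq_or_lt_of_le hhead with h | h
      · exact le_cod l h.symm hlast
      · have h3 : ((l.cons (cl s) h).length : ℕ∞) ≤ cod (cl s) T' :=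
          le_cod (l.cons (cl s) h) (RelSeries.head_cons _ _ _)
            (by rw [RelSeries.last_cons]; exact hlast)
        refine le_trans ?_ h3
        have h5 : l.length = m := rfl
        have h4 : m ≤ (l.cons (cl s) h).length := by
          rw [RelSeries.cons_length]
          omega
        exact_mod_cast h4
    exact_mod_cast hm
  · obtain ⟨l, hl1, hl2, -, hl4⟩ := exists_max (cl_le_iff.mpr hs) hfin
    rw [← hl4]
    have hmem : ∀ i, gp (l i) ∈ {t : S | t ∈ (T' : Set S) ∧ t ⤳ s} := by
      intro i
      constructor
      · have h1 : l i ≤ T' := hl2 ▸ l.monotone (Fin.le_last i)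
        have h2 : gp (l i) ∈ (l i : Set S) := by
          rw [← closure_gp (l i)]
          exact subset_closure rfl
        exact h1 h2
      · have h1 : cl s ≤ l i := hl1 ▸ l.head_le i
        rw [← cl_gp (l i), cl_le_cl_iff] at h1
        exact h1
    let c : Fin (l.length + 1) → ↥{t : S | t ∈ (T' : Set S) ∧ t ⤳ s} :=
      fun i => ⟨gp (l i.rev), hmem i.rev⟩
    refine LocalDim.le_dim_of_specializing_chain c ?_
    intro i
    have hlt : l i.succ.rev < l i.castSucc.rev := by
      apply l.strictMono
      rw [Fin.rev_lt_rev]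
      exact Fin.castSucc_lt_succ
    constructor
    · rw [← Topology.IsInducing.subtypeVal.specializes_iff]
      exact gp_spec hlt.le
    · intro h3
      rw [← Topology.IsInducing.subtypeVal.specializes_iff] at h3
      have h4 : gp (l i.succ.rev) ⤳ gp (l i.castSucc.rev) := h3
      have h5 : l i.castSucc.rev ≤ l i.succ.rev := by
        rw [← cl_gp (l i.castSucc.rev), ← cl_gp (l i.succ.rev), cl_le_cl_iff]
        exact h4
      exact hlt.not_ge h5

end Top

end Groth.Agent.Lib.Helper24.JacDim
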