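import Mathlib
import Groth.Agent.Lib.Helper24.LocalDim.Top

/-!
# Strictly specializing chains of points and dimensions of subspaces (helper24)
-/

set_option autoImplicit false
universe u
open TopologicalSpace Topology

namespace Groth.Agent.Lib.Helper24.JacDim

variable {Z : Type*} [TopologicalSpace Z]

/-- A strictly specializing chain of points `c 0 ⤳ c 1 ⤳ ⋯ ⤳ c m`. -/
def SChain (m : ℕ) (c : Fin (m + 1) → Z) : Prop :=
  ∀ i : Fin m, c i.castSucc ⤳ c i.succ ∧ ¬ c i.succ ⤳ c i.castSucc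

theorem SChain.specializes {m : ℕ} {c : Fin (m + 1) → Z} (h : SChain m c) {i j : Fin (m + 1)}
    (hij : i ≤ j) : c i ⤳ c j := by
  induction j using Fin.induction with
  | zero =>
    have : i = 0 := le_antisymm hij (Fin.zero_le _)
    rw [this]
  | succ j ih =>
    rcases eq_or_lt_of_le hij with h' | h'
    · rw [h']
    · have h'' : i ≤ j.castSucc := Fin.le_castSucc_iff.mpr h'
      exact (ih h'').trans (h j).1

theorem SChain.head_specializes {m : ℕ} {c : Fin (m + 1) → Z} (h : SChain m c) (i : Fin (m + 1)) :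
    c 0 ⤳ c i := h.specializes (Fin.zero_le _)

theorem SChain.specializes_last {m : ℕ} {c : Fin (m + 1) → Z} (h : SChain m c) (i : Fin (m + 1)) :
    c i ⤳ c (Fin.last m) := h.specializes (Fin.le_last _)

theorem SChain.zero (z : Z) : SChain 0 (fun _ : Fin 1 => z) := fun i => i.elim0

theorem SChain.cons {m : ℕ} {c : Fin (m + 1) → Z} (h : SChain m c) (z : Z) (h1 : z ⤳ c 0)
    (h2 : ¬ c 0 ⤳ z) : SChain (m + 1) (Fin.cons z c : Fin (m + 2) → Z) := by
  intro i
  refine Fin.cases ?_ (fun i => ?_) i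
  · simpa using ⟨h1, h2⟩
  · have := h i
    rw [← Fin.succ_castSucc]
    simpa using this

theorem le_dim_of_chain_inducing {A : Type*} [TopologicalSpace A] (j : A → Z) (hj : IsInducing j)
    {m : ℕ} (a : Fin (m + 1) → A) (h : SChain m (fun i => j (a i))) :
    (m : WithBot ℕ∞) ≤ topologicalKrullDim A :=
  LocalDim.le_dim_of_specializing_chain a (fun i =>
    ⟨hj.specializes_iff.mp (h i).1, fun h' => (h i).2 (hj.specializes_iff.mpr h')⟩)

theorem le_dim_of_chain_mem (A : Set Z) {m : ℕ} (c : Fin (m + 1) → Z) (h : SChain m c)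
    (hA : ∀ i, c i ∈ A) : (m : WithBot ℕ∞) ≤ topologicalKrullDim ↥A :=
  le_dim_of_chain_inducing (Subtype.val : ↥A → Z) IsInducing.subtypeVal
    (fun i => (⟨c i, hA i⟩ : ↥A)) h

theorem dim_le_of_chains_inducing {A : Type*} [TopologicalSpace A] [QuasiSober A] (j : A → Z)
    (hj : IsInducing j) (n : WithBot ℕ∞)
    (h : ∀ (m : ℕ) (c : Fin (m + 1) → Z), SChain m c → (∀ i, c i ∈ Set.range j) →
      (m : WithBot ℕ∞) ≤ n) :
    topologicalKrullDim A ≤ n :=
  LocalDim.dim_le_of_specializing_chains n (fun m a ha =>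
    h m (fun i => j (a i))
      (fun i => ⟨hj.specializes_iff.mpr (ha i).1, fun h' => (ha i).2 (hj.specializes_iff.mp h')⟩)
      (fun i => ⟨a i, rfl⟩))

theorem dim_le_of_chains_mem (A : Set Z) [QuasiSober ↥A] (n : WithBot ℕ∞)
    (h : ∀ (m : ℕ) (c : Fin (m + 1) → Z), SChain m c → (∀ i, c i ∈ A) → (m : WithBot ℕ∞) ≤ n) :
    topologicalKrullDim ↥A ≤ n :=
  dim_le_of_chains_inducing (Subtype.val : ↥A → Z) IsInducing.subtypeVal n
    (fun m c hc hmem => h m c hc (fun i => by
      obtain ⟨a, ha⟩ := hmem i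
      rw [← ha]
      exact a.2))

end Groth.Agent.Lib.Helper24.JacDim
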