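import Mathlib
import Groth.Agent.Lib.Helper24.JacDim.Chains
import Groth.Agent.Lib.Helper24.Cat.JacobsonDim

/-!
# Dimension functions vanishing at closed points on Jacobson schemes: chains (helper24)
-/

set_option autoImplicit false
universe u
open AlgebraicGeometry CategoryTheory TopologicalSpace Topology

namespace Groth.Agent.Lib.Helper24.JacDim

/-- A dimension function on a scheme that is nonnegative and vanishes at a closed point
of every nonempty locally closed set `closure {t} ∩ U`. -/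
structure DimData (X : Scheme.{u}) (δ : X → ℤ) : Prop where
  dimFun : Cyc.IsDimFun X δ
  nonneg : ∀ x : X, 0 ≤ δ x
  closed : ∀ U : Set X, IsOpen U → ∀ t ∈ U, ∃ s ∈ U, t ⤳ s ∧ δ s = 0

theorem DimData.of_setup (X : Scheme.{u}) [JacobsonSpace X] (δ : X → ℤ) (hX : Cyc.IsSetup X δ)
    (h0 : ∀ x : X, IsClosed ({x} : Set X) → δ x = 0) : DimData X δ := by
  refine ⟨hX.2.2, fun x => (JacobsonDim.main X δ hX h0 x).1.2, ?_⟩
  intro U hU t ht
  obtain ⟨z, hz1, hz2⟩ := nonempty_inter_closedPoints (Z := closure ({t} : Set X) ∩ U)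
    ⟨t, subset_closure rfl, ht⟩ (isClosed_closure.isLocallyClosed.inter hU.isLocallyClosed)
  exact ⟨z, hz1.2, specializes_iff_mem_closure.2 hz1.1, h0 z hz2⟩

variable {X : Scheme.{u}} {δ : X → ℤ}

theorem DimData.mono (hD : DimData X δ) {x y : X} (h : x ⤳ y) : δ y ≤ δ x := by
  by_cases heq : x = y
  · rw [heq]
  · exact (hD.dimFun x y h heq).1.le

theorem DimData.eq_of_le (hD : DimData X δ) {x y : X} (h : x ⤳ y) (hle : δ x ≤ δ y) : x = y := by
  by_contra heq
  have := (hD.dimFun x y h heq).1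
  omega

theorem DimData.chain_bound (hD : DimData X δ) {m : ℕ} {c : Fin (m + 1) → X} (h : SChain m c)
    (i : Fin (m + 1)) : ((i : ℕ) : ℤ) ≤ δ (c 0) - δ (c i) := by
  induction i using Fin.induction with
  | zero => simp
  | succ i ih =>
    have hne : c i.castSucc ≠ c i.succ := by
      intro heq
      apply (h i).2
      rw [heq]
    have := (hD.dimFun _ _ (h i).1 hne).1
    simp only [Fin.val_succ, Fin.val_castSucc] at ih ⊢
    push_cast
    omega

theorem DimData.chain_le (hD : DimData X δ) {m : ℕ} {c : Fin (m + 1) → X} (h : SChain m c) :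
    (m : ℤ) ≤ δ (c 0) - δ (c (Fin.last m)) := by
  have := hD.chain_bound h (Fin.last m)
  simpa using this

/-- Existence of saturated chains of the expected length. -/
theorem DimData.chain_exists (hD : DimData X δ) (n : ℕ) :
    ∀ (ζ t : X), ζ ⤳ t → δ ζ - δ t = n →
      ∃ c : Fin (n + 1) → X, SChain n c ∧ c 0 = ζ ∧ c (Fin.last n) = t := by
  induction n with
  | zero =>
    intro ζ t hζt hn
    have heq : ζ = t := hD.eq_of_le hζt (by omega)
    exact ⟨fun _ => ζ, SChain.zero ζ, rfl, heq⟩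
  | succ n ih =>
    intro ζ t hζt hn
    have hne : ζ ≠ t := by
      intro heq
      rw [heq] at hn
      simp at hn
      omega
    -- choose t' with maximal δ among the proper specializations of ζ generizing t
    obtain ⟨k, ⟨t', ⟨ht'1, ht'2, ht'3⟩, hk⟩, hmax⟩ := Int.exists_greatest_of_bdd
      (P := fun k => ∃ t' : X, (ζ ⤳ t' ∧ t' ⤳ t ∧ t' ≠ ζ) ∧ δ t' = k)
      ⟨δ ζ, fun z ⟨t', ⟨h1, _, _⟩, hz⟩ => hz ▸ hD.mono h1⟩
      ⟨δ t, t, ⟨hζt, specializes_rfl, fun h => hne h.symm⟩, rfl⟩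
    have hcov : ∀ z : X, ζ ⤳ z → z ⤳ t' → z = ζ ∨ z = t' := by
      intro z hz1 hz2
      by_cases hzζ : z = ζ
      · exact Or.inl hzζ
      · right
        have := hmax (δ z) ⟨z, ⟨hz1, hz2.trans ht'2, hzζ⟩, rfl⟩
        exact hD.eq_of_le hz2 (by omega)
    have hstep := (hD.dimFun ζ t' ht'1 (fun h => ht'3 h.symm)).2 hcov
    obtain ⟨c, hc, hc0, hcl⟩ := ih t' t ht'2 (by push_cast at hn; omega)
    refine ⟨Fin.cons ζ c, hc.cons ζ (hc0 ▸ ht'1) ?_, rfl, ?_⟩
    · rw [hc0]
      intro h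
      exact ht'3 (hD.eq_of_le h (hD.mono ht'1))
    · rw [← Fin.succ_last, Fin.cons_succ]
      exact hcl

end Groth.Agent.Lib.Helper24.JacDim
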