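import Mathlib
import Groth.Agent.Lib.Helper24.JacDim.DimData
import Groth.Agent.Lib.Helper24.JacDim.Base
import Groth.Prelude.Def_Flat

/-!
# Local dimension of a closed subset of a Jacobson scheme with a dimension function (helper24)
-/

set_option autoImplicit false
set_option linter.style.haveILetI false
universe u
open AlgebraicGeometry CategoryTheory TopologicalSpace Topology

namespace Groth.Agent.Lib.Helper24.JacDim

variable {X : Scheme.{u}} {δ : X → ℤ}

/-- The supremum of the values of the dimension function at the generizations of `x` in `Y`. -/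
noncomputable def NN (δ : X → ℤ) (Y : Set X) (x : X) : WithBot ℕ∞ :=
  ⨆ ζ : {ζ : X // ζ ∈ Y ∧ ζ ⤳ x}, ((δ ζ.1).toNat : WithBot ℕ∞)

theorem le_NN (Y : Set X) (x : X) (ζ : X) (h1 : ζ ∈ Y) (h2 : ζ ⤳ x) :
    ((δ ζ).toNat : WithBot ℕ∞) ≤ NN δ Y x :=
  le_iSup (fun ζ : {ζ : X // ζ ∈ Y ∧ ζ ⤳ x} => ((δ ζ.1).toNat : WithBot ℕ∞)) ⟨ζ, h1, h2⟩

section

variable (hD : DimData X δ) (Y : Set X) (hY : IsClosed Y) (x : X) (hx : x ∈ Y)

include hD in
theorem chain_le_toNat {m : ℕ} {c : Fin (m + 1) → X} (hc : SChain m c) (μ : X) (hμc : μ ⤳ c 0) :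
    m ≤ (δ μ).toNat := by
  have h1 := hD.chain_le hc
  have h2 := hD.nonneg (c (Fin.last m))
  have h3 := hD.mono hμc
  omega

include hD in
theorem chain_le_NN {m : ℕ} {c : Fin (m + 1) → X} (hc : SChain m c) (μ : X) (hμY : μ ∈ Y)
    (hμx : μ ⤳ x) (hμc : μ ⤳ c 0) : (m : WithBot ℕ∞) ≤ NN δ Y x := by
  refine le_trans ?_ (le_NN Y x μ hμY hμx)
  exact_mod_cast chain_le_toNat hD hc μ hμc

include hD in
/-- A saturated chain from `ζ` down to a closed point inside an open set. -/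
theorem exists_chain_to_closed (U : Set X) (hU : IsOpen U) (ζ : X) (hζ : ζ ∈ U) :
    ∃ c : Fin ((δ ζ).toNat + 1) → X, SChain (δ ζ).toNat c ∧ c 0 = ζ ∧ ∀ i, ζ ⤳ c i ∧ c i ∈ U := by
  obtain ⟨s, hsU, hζs, hs0⟩ := hD.closed U hU ζ hζ
  obtain ⟨c, hc, hc0, hcl⟩ := hD.chain_exists (δ ζ).toNat ζ s hζs
    (by rw [hs0, sub_zero, Int.toNat_of_nonneg (hD.nonneg ζ)])
  refine ⟨c, hc, hc0, fun i => ⟨hc0 ▸ hc.head_specializes i, ?_⟩⟩
  have := hc.specializes_last i
  rw [hcl] at this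
  exact this.mem_open hU hsU

include hD hY in
theorem NN_le_dim (U : Set X) (hU : IsOpen U) (hxU : x ∈ U) {A : Type*} [TopologicalSpace A]
    (j : A → X) (hj : IsInducing j) (hr : U ∩ Y ⊆ Set.range j) :
    NN δ Y x ≤ topologicalKrullDim A := by
  apply iSup_le
  rintro ⟨ζ, hζY, hζx⟩
  obtain ⟨c, hc, -, hmem⟩ := exists_chain_to_closed hD U hU ζ (hζx.mem_open hU hxU)
  have hr' : ∀ i, ∃ a : A, j a = c i := fun i =>
    hr ⟨(hmem i).2, (hmem i).1.mem_closed hY hζY⟩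
  choose a ha using hr'
  refine le_dim_of_chain_inducing j hj a ?_
  have : (fun i => j (a i)) = c := funext ha
  rw [this]
  exact hc

include hY in
/-- In a locally Noetherian scheme, every point of `Y` near `x` lies on an irreducible closed
subset of `Y` passing through `x`. -/
theorem exists_nhd [IsLocallyNoetherian X] :
    ∃ U0 : Set X, IsOpen U0 ∧ x ∈ U0 ∧ ∀ t ∈ U0 ∩ Y, ∃ μ ∈ Y, μ ⤳ t ∧ μ ⤳ x := by
  obtain ⟨_, ⟨W, hW, rfl⟩, hxW, -⟩ :=
    X.isBasis_affineOpens.exists_subset_of_mem_open (Set.mem_univ x) isOpen_univ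
  haveI : IsNoetherianRing Γ(X, W) := IsLocallyNoetherian.component_noetherian ⟨W, hW⟩
  haveI : NoetherianSpace ↥(W : Set X) := noetherianSpace_of_isAffineOpen W hW
  haveI : QuasiSober ↥(W : Set X) := W.isOpen.isOpenEmbedding_subtypeVal.quasiSober
  have hYW : IsClosed (Subtype.val ⁻¹' Y : Set ↥(W : Set X)) := hY.preimage continuous_subtype_val
  obtain ⟨S, hSf, hSc, hSi, hSU⟩ := NoetherianSpace.exists_finite_set_isClosed_irreducible hYW
  set xW : ↥(W : Set X) := ⟨x, hxW⟩ with hxW'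
  set F : Set ↥(W : Set X) := ⋃ k ∈ {k ∈ S | xW ∉ k}, k with hF'
  have hF : IsClosed F :=
    (hSf.subset (Set.sep_subset _ _)).isClosed_biUnion (fun k hk => hSc k hk.1)
  have hxF : xW ∉ F := by
    intro h
    rw [hF'] at h
    simp only [Set.mem_iUnion, exists_prop] at h
    obtain ⟨k, hk, hxk⟩ := h
    exact hk.2 hxk
  refine ⟨Subtype.val '' Fᶜ, W.isOpen.isOpenMap_subtype_val _ hF.isOpen_compl,
    ⟨xW, hxF, rfl⟩, ?_⟩
  rintro _ ⟨⟨w, hwF, rfl⟩, hwY⟩
  have hwS : w ∈ ⋃₀ S := by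
    rw [← hSU]
    exact hwY
  obtain ⟨k, hk, hwk⟩ := hwS
  have hxk : xW ∈ k := by
    by_contra hxk
    apply hwF
    rw [hF']
    simp only [Set.mem_iUnion, exists_prop]
    exact ⟨k, ⟨hk, hxk⟩, hwk⟩
  obtain ⟨μ, hμ⟩ := QuasiSober.sober (hSi k hk) (hSc k hk)
  have hμY : μ.1 ∈ Y := by
    have : μ ∈ ⋃₀ S := ⟨k, hk, hμ.mem⟩
    rw [← hSU] at this
    exact this
  exact ⟨μ.1, hμY, (hμ.specializes hwk).map continuous_subtype_val,
    (hμ.specializes hxk).map continuous_subtype_val⟩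

include hD hY in
theorem localDim_eq_NN [IsLocallyNoetherian X] :
    FlatMor.localDim ↥Y ⟨x, hx⟩ = NN δ Y x := by
  haveI : QuasiSober ↥Y := hY.isClosedEmbedding_subtypeVal.quasiSober
  apply le_antisymm
  · obtain ⟨U0, hU0, hxU0, hgen⟩ := exists_nhd Y hY x
    let U0' : Opens ↥Y := ⟨Subtype.val ⁻¹' U0, hU0.preimage continuous_subtype_val⟩
    have hxU0' : (⟨x, hx⟩ : ↥Y) ∈ U0' := hxU0
    unfold FlatMor.localDim
    refine iInf_le_of_le ⟨U0', hxU0'⟩ ?_
    haveI : QuasiSober ↥(U0' : Set ↥Y) := U0'.isOpen.isOpenEmbedding_subtypeVal.quasiSober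
    refine dim_le_of_chains_inducing (fun a : ↥(U0' : Set ↥Y) => a.1.1)
      (IsInducing.subtypeVal.comp IsInducing.subtypeVal) _ ?_
    intro m c hc hmem
    obtain ⟨a0, ha0⟩ := hmem 0
    have h0 : c 0 ∈ U0 ∩ Y := by
      rw [← ha0]
      exact ⟨a0.2, a0.1.2⟩
    obtain ⟨μ, hμY, hμc, hμx⟩ := hgen _ h0
    exact chain_le_NN hD Y x hc μ hμY hμx hμc
  · unfold FlatMor.localDim
    apply le_iInf
    rintro ⟨U', hxU'⟩
    obtain ⟨V, hV, hVU⟩ := isOpen_induced_iff.mp U'.isOpen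
    have hxV : x ∈ V := by
      have : (⟨x, hx⟩ : ↥Y) ∈ Subtype.val ⁻¹' V := by
        rw [hVU]
        exact hxU'
      exact this
    refine NN_le_dim hD Y hY x V hV hxV (fun a : ↥(U' : Set ↥Y) => a.1.1)
      (IsInducing.subtypeVal.comp IsInducing.subtypeVal) ?_
    rintro t ⟨htV, htY⟩
    have : (⟨t, htY⟩ : ↥Y) ∈ (U' : Set ↥Y) := by
      rw [← hVU]
      exact htV
    exact ⟨⟨⟨t, htY⟩, this⟩, rfl⟩

include hD hY in
/-- The dimension of an irreducible closed subset of `↥Y` with generic point `μ`. -/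
theorem dim_irreducible (C : Set ↥Y) (hC : IsClosed C) (μ : ↥Y) (hμ : IsGenericPoint μ C) :
    topologicalKrullDim ↥C = ((δ μ.1).toNat : WithBot ℕ∞) := by
  haveI : QuasiSober ↥Y := hY.isClosedEmbedding_subtypeVal.quasiSober
  haveI : QuasiSober ↥C := hC.isClosedEmbedding_subtypeVal.quasiSober
  apply le_antisymm
  · refine dim_le_of_chains_inducing (fun a : ↥C => a.1.1)
      (IsInducing.subtypeVal.comp IsInducing.subtypeVal) _ ?_
    intro m c hc hmem
    obtain ⟨a0, ha0⟩ := hmem 0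
    have h1 : μ.1 ⤳ c 0 := by
      rw [← ha0]
      exact (hμ.specializes a0.2).map continuous_subtype_val
    exact_mod_cast chain_le_toNat hD hc μ.1 h1
  · obtain ⟨c, hc, -, hmem⟩ := exists_chain_to_closed hD Set.univ isOpen_univ μ.1 trivial
    have hY' : ∀ i, c i ∈ Y := fun i => (hmem i).1.mem_closed hY μ.2
    have hC' : ∀ i, (⟨c i, hY' i⟩ : ↥Y) ∈ C := fun i => by
      have h1 : μ ⤳ (⟨c i, hY' i⟩ : ↥Y) := IsInducing.subtypeVal.specializes_iff.mp (hmem i).1
      exact h1.mem_closed hC hμ.mem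
    exact le_dim_of_chain_inducing (fun a : ↥C => a.1.1)
      (IsInducing.subtypeVal.comp IsInducing.subtypeVal) (fun i => ⟨⟨c i, hY' i⟩, hC' i⟩) hc

include hD hY in
theorem iSup_components_eq_NN :
    (⨆ C ∈ {C : Set ↥Y | C ∈ irreducibleComponents ↥Y ∧ (⟨x, hx⟩ : ↥Y) ∈ C},
      topologicalKrullDim ↥C) = NN δ Y x := by
  haveI : QuasiSober ↥Y := hY.isClosedEmbedding_subtypeVal.quasiSober
  apply le_antisymm
  · apply iSup₂_le
    rintro C ⟨hC, hxC⟩
    have hCc := isClosed_of_mem_irreducibleComponents C hC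
    obtain ⟨μ, hμ⟩ := QuasiSober.sober hC.1 hCc
    rw [dim_irreducible hD Y hY C hCc μ hμ]
    exact le_NN Y x μ.1 μ.2 ((hμ.specializes hxC).map continuous_subtype_val)
  · apply iSup_le
    rintro ⟨ζ, hζY, hζx⟩
    set C : Set ↥Y := irreducibleComponent (⟨ζ, hζY⟩ : ↥Y) with hCdef
    have hC : C ∈ irreducibleComponents ↥Y := irreducibleComponent_mem_irreducibleComponents _
    have hCc : IsClosed C := isClosed_irreducibleComponent
    have hζC : (⟨ζ, hζY⟩ : ↥Y) ∈ C := mem_irreducibleComponent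
    have hζx' : (⟨ζ, hζY⟩ : ↥Y) ⤳ (⟨x, hx⟩ : ↥Y) := IsInducing.subtypeVal.specializes_iff.mp hζx
    have hxC : (⟨x, hx⟩ : ↥Y) ∈ C := hζx'.mem_closed hCc hζC
    obtain ⟨μ, hμ⟩ := QuasiSober.sober hC.1 hCc
    refine le_iSup₂_of_le C ⟨hC, hxC⟩ ?_
    rw [dim_irreducible hD Y hY C hCc μ hμ]
    have h1 : μ.1 ⤳ ζ := (hμ.specializes hζC).map continuous_subtype_val
    have h2 := hD.mono h1
    have h3 : (δ ζ).toNat ≤ (δ μ.1).toNat := Int.toNat_le_toNat h2
    exact_mod_cast h3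

include hD hY in
theorem dim_inter_eq_NN (U : Set X) (hU : IsOpen U) (hxU : x ∈ U)
    (hdisj : ∀ C ∈ irreducibleComponents ↥Y, (⟨x, hx⟩ : ↥Y) ∉ C →
      Disjoint (Subtype.val ⁻¹' U) C) :
    topologicalKrullDim ↥(U ∩ Y) = NN δ Y x := by
  haveI : QuasiSober ↥Y := hY.isClosedEmbedding_subtypeVal.quasiSober
  haveI : QuasiSober ↥U := hU.isOpenEmbedding_subtypeVal.quasiSober
  haveI : QuasiSober ↥(U ∩ Y) := QuasiSober.inter_of_isClosed_of_quasiSober_left U hY
  apply le_antisymm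
  · refine dim_le_of_chains_mem (U ∩ Y) _ ?_
    intro m c hc hmem
    obtain ⟨h0U, h0Y⟩ := hmem 0
    set C : Set ↥Y := irreducibleComponent (⟨c 0, h0Y⟩ : ↥Y) with hCdef
    have hC : C ∈ irreducibleComponents ↥Y := irreducibleComponent_mem_irreducibleComponents _
    have hCc : IsClosed C := isClosed_irreducibleComponent
    have h0C : (⟨c 0, h0Y⟩ : ↥Y) ∈ C := mem_irreducibleComponent
    have hxC : (⟨x, hx⟩ : ↥Y) ∈ C := by
      by_contra hxC
      exact Set.disjoint_left.mp (hdisj C hC hxC) (show (⟨c 0, h0Y⟩ : ↥Y) ∈ Subtype.val ⁻¹' U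
        from h0U) h0C
    obtain ⟨μ, hμ⟩ := QuasiSober.sober hC.1 hCc
    exact chain_le_NN hD Y x hc μ.1 μ.2 ((hμ.specializes hxC).map continuous_subtype_val)
      ((hμ.specializes h0C).map continuous_subtype_val)
  · refine NN_le_dim hD Y hY x U hU hxU (Subtype.val : ↥(U ∩ Y) → X) IsInducing.subtypeVal ?_
    rw [Subtype.range_val]

include hD in
theorem dim_closure_eq :
    topologicalKrullDim ↥(closure ({x} : Set X)) = ((δ x).toNat : WithBot ℕ∞) := by
  haveI : QuasiSober ↥(closure ({x} : Set X)) :=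
    isClosed_closure.isClosedEmbedding_subtypeVal.quasiSober
  apply le_antisymm
  · refine dim_le_of_chains_mem _ _ ?_
    intro m c hc hmem
    exact_mod_cast chain_le_toNat hD hc x (specializes_iff_mem_closure.mpr (hmem 0))
  · obtain ⟨c, hc, -, hmem⟩ := exists_chain_to_closed hD Set.univ isOpen_univ x trivial
    exact le_dim_of_chain_mem _ c hc (fun i => specializes_iff_mem_closure.mp (hmem i).1)

include hD hY hx in
theorem dim_closure_add_dim_gen_eq_NN :
    topologicalKrullDim ↥(closure ({x} : Set X)) +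
      topologicalKrullDim ↥{t : X | t ∈ Y ∧ t ⤳ x} = NN δ Y x := by
  rw [dim_closure_eq hD x]
  haveI : QuasiSober ↥{t : X | t ∈ Y ∧ t ⤳ x} := quasiSober_gen Y hY x
  apply le_antisymm
  · have hxN : ((δ x).toNat : WithBot ℕ∞) ≤ NN δ Y x := le_NN Y x x hx specializes_rfl
    have hne : NN δ Y x ≠ ⊥ := fun h => by
      rw [h] at hxN
      simp at hxN
    obtain ⟨k, hk⟩ := WithBot.ne_bot_iff_exists.mp hne
    rcases eq_or_ne k ⊤ with hk' | hk'
    · rw [← hk, hk']
      exact le_top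
    · obtain ⟨n, rfl⟩ := ENat.ne_top_iff_exists.mp hk'
      have hxn : (δ x).toNat ≤ n := by
        rw [← hk] at hxN
        exact_mod_cast hxN
      have hg : topologicalKrullDim ↥{t : X | t ∈ Y ∧ t ⤳ x} ≤
          ((n - (δ x).toNat : ℕ) : WithBot ℕ∞) := by
        refine dim_le_of_chains_mem _ _ ?_
        intro m c hc hmem
        have h1 := hD.chain_le hc
        have h2 := hD.mono (hmem (Fin.last m)).2
        have h3 : ((δ (c 0)).toNat : WithBot ℕ∞) ≤ NN δ Y x := le_NN Y x (c 0) (hmem 0).1 (hmem 0).2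
        rw [← hk] at h3
        have h3' : (δ (c 0)).toNat ≤ n := by exact_mod_cast h3
        have h4 := hD.nonneg x
        have h5 : m ≤ n - (δ x).toNat := by omega
        exact_mod_cast h5
      rw [← hk]
      calc ((δ x).toNat : WithBot ℕ∞) + topologicalKrullDim ↥{t : X | t ∈ Y ∧ t ⤳ x}
          ≤ ((δ x).toNat : WithBot ℕ∞) + ((n - (δ x).toNat : ℕ) : WithBot ℕ∞) :=
            add_le_add le_rfl hg
        _ = ((n : ℕ∞) : WithBot ℕ∞) := by
            have : (δ x).toNat + (n - (δ x).toNat) = n := by omega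
            rw [← Nat.cast_add, this]
            rfl
  · apply iSup_le
    rintro ⟨ζ, hζY, hζx⟩
    have h1 := hD.mono hζx
    have h2 := hD.nonneg x
    obtain ⟨c, hc, hc0, hcl⟩ := hD.chain_exists (δ ζ - δ x).toNat ζ x hζx
      (by rw [Int.toNat_of_nonneg (by omega)])
    have hmem : ∀ i, c i ∈ {t : X | t ∈ Y ∧ t ⤳ x} := fun i =>
      ⟨(hc0 ▸ hc.head_specializes i).mem_closed hY hζY, hcl ▸ hc.specializes_last i⟩
    have hg := le_dim_of_chain_mem _ c hc hmem
    have h3 : (δ ζ).toNat = (δ x).toNat + (δ ζ - δ x).toNat := by omega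
    calc ((δ ζ).toNat : WithBot ℕ∞)
        = ((δ x).toNat : WithBot ℕ∞) + (((δ ζ - δ x).toNat : ℕ) : WithBot ℕ∞) := by
          exact_mod_cast h3
      _ ≤ _ := add_le_add le_rfl hg

end

end Groth.Agent.Lib.Helper24.JacDim
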