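import Mathlib
import Groth.Prelude.Def_FlatMod2
import Groth.Agent.Lib.Helper29.QCohStalk
import Groth.Agent.Lib.Helper24.JacDim.Chains
import Groth.Agent.Lib.Helper24.JacDim.Base

/-!
# The support of the stalk of a quasi-coherent module and generizations in the support (helper24)
-/

set_option autoImplicit false
set_option linter.style.haveILetI false
universe u
open AlgebraicGeometry CategoryTheory TopologicalSpace Topology
open Groth.Agent.Lib.Helper28.QCohLoc Groth.Agent.Lib.Helper29.QCohStalk

namespace Groth.Agent.Lib.Helper24.JacDim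

variable {X : Scheme.{u}} (F : X.Modules)

/-- The point of `X` corresponding to a prime of the local ring at `x`, in an affine chart. -/
theorem fromSpecStalk_eq_fromSpec {U : X.Opens} (hU : IsAffineOpen U) (x : X) (hx : x ∈ U)
    (𝔭 : PrimeSpectrum (X.presheaf.stalk x)) :
    X.fromSpecStalk x 𝔭 = hU.fromSpec (Spec.map (X.presheaf.germ U x hx) 𝔭) := by
  rw [← hU.fromSpecStalk_eq_fromSpecStalk hx]
  rfl

theorem germPrime_fromSpecStalk {U : X.Opens} (hU : IsAffineOpen U) (x : X) (hx : x ∈ U)
    (𝔭 : PrimeSpectrum (X.presheaf.stalk x)) (ht : X.fromSpecStalk x 𝔭 ∈ U) :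
    germPrime U (X.fromSpecStalk x 𝔭) ht = 𝔭.asIdeal.comap (X.presheaf.germ U x hx).hom := by
  have h1 := germPrime_fromSpec hU (Spec.map (X.presheaf.germ U x hx) 𝔭)
  have h2 := fromSpecStalk_eq_fromSpec hU x hx 𝔭
  have h3 : ∀ (t t' : X) (h : t = t') (ht : t ∈ U) (ht' : t' ∈ U),
      germPrime U t ht = germPrime U t' ht' := by
    intro t t' h ht ht'
    subst h
    rfl
  rw [h3 _ _ h2 ht (fromSpec_mem hU _), h1]
  rfl

/-- Key lemma: a generization of `x` lies in the support of a quasi-coherent module iff the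
corresponding prime of `O_{X,x}` lies in the support of the stalk. -/
theorem fromSpecStalk_mem_support_iff {U : X.Opens} (hU : IsAffineOpen U) (hloc : IsLocOn F U)
    (x : X) (hx : x ∈ U) (𝔭 : PrimeSpectrum (X.presheaf.stalk x)) :
    X.fromSpecStalk x 𝔭 ∈ CohB1.support F ↔
      𝔭 ∈ Module.support (X.presheaf.stalk x) (F.presheaf.stalk x) := by
  have hspec : X.fromSpecStalk x 𝔭 ⤳ x := by
    have : X.fromSpecStalk x 𝔭 ∈ Set.range (X.fromSpecStalk x) := ⟨𝔭, rfl⟩
    rw [Scheme.range_fromSpecStalk] at this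
    exact this
  have ht : X.fromSpecStalk x 𝔭 ∈ U := hspec.mem_open U.isOpen hx
  rw [mem_support_iff hU hloc _ ht, germPrime_fromSpecStalk hU x hx 𝔭 ht,
    Module.mem_support_iff_exists_annihilator]
  constructor
  · rintro ⟨m, hm⟩
    refine ⟨gm F U x hx m, ?_⟩
    intro b hb
    rw [Submodule.mem_annihilator_span_singleton] at hb
    obtain ⟨s, g, hg, hbg⟩ := stalk_affine_surj hU x hx b
    have h1 : gm F U x hx (s • m) = 0 := by
      rw [gm_smul, ← hbg, mul_comm, mul_smul, hb, smul_zero]
    obtain ⟨s', hs', hs'm⟩ := exists_smul_eq_zero_of_gm_eq_zero F hU hloc x hx (s • m) h1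
    have h2 : s' * s ∈ ann (R := Γ(X, U)) m := by
      rw [mem_ann, mul_smul]
      exact hs'm
    have h3 := hm h2
    rw [Ideal.mem_comap, map_mul] at h3
    have h4 : (X.presheaf.germ U x hx).hom s ∈ 𝔭.asIdeal := by
      rcases 𝔭.isPrime.mem_or_mem h3 with h | h
      · exact absurd (𝔭.asIdeal.eq_top_of_isUnit_mem h hs') 𝔭.isPrime.ne_top
      · exact h
    have h5 : b * (X.presheaf.germ U x hx).hom g ∈ 𝔭.asIdeal := by
      have : b * (X.presheaf.germ U x hx).hom g = (X.presheaf.germ U x hx).hom s := hbg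
      rw [this]
      exact h4
    rcases 𝔭.isPrime.mem_or_mem h5 with h | h
    · exact h
    · exact absurd (𝔭.asIdeal.eq_top_of_isUnit_mem h hg) 𝔭.isPrime.ne_top
  · rintro ⟨μ, hμ⟩
    obtain ⟨s, m, hs, hsm⟩ := exists_germ_smul_eq F hU hloc x hx μ
    refine ⟨m, ?_⟩
    intro a ha
    rw [mem_ann] at ha
    rw [Ideal.mem_comap]
    have h1 : ((X.presheaf.germ U x hx).hom a * (X.presheaf.germ U x hx).hom s) • μ = 0 := by
      have h2 : (X.presheaf.germ U x hx).hom s • μ = gm F U x hx m := hsm
      rw [mul_smul, h2]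
      have h3 := gm_smul F U x hx a m
      rw [ha, gm_zero] at h3
      exact h3.symm
    have h4 : (X.presheaf.germ U x hx).hom a * (X.presheaf.germ U x hx).hom s ∈ 𝔭.asIdeal :=
      hμ (Submodule.mem_annihilator_span_singleton _ _ |>.mpr h1)
    rcases 𝔭.isPrime.mem_or_mem h4 with h | h
    · exact h
    · exact absurd (𝔭.asIdeal.eq_top_of_isUnit_mem h hs) 𝔭.isPrime.ne_top

end Groth.Agent.Lib.Helper24.JacDim

namespace Groth.Agent.Lib.Helper24.JacDim

variable {X : Scheme.{u}} (F : X.Modules)

theorem fromSpecStalk_specializes_iff (x : X) (𝔭 𝔮 : PrimeSpectrum (X.presheaf.stalk x)) :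
    X.fromSpecStalk x 𝔭 ⤳ X.fromSpecStalk x 𝔮 ↔ 𝔭 ≤ 𝔮 := by
  rw [PrimeSpectrum.le_iff_specializes]
  exact (X.fromSpecStalk x).isEmbedding.isInducing.specializes_iff

/-- The dimension of the support of the stalk of a quasi-coherent module is the dimension of the
space of generizations of the point inside the support. -/
theorem supportDim_stalk_eq {U : X.Opens} (hU : IsAffineOpen U) (hloc : IsLocOn F U)
    (hcl : IsClosed (CohB1.support F)) (x : X) (hx : x ∈ U) :
    Module.supportDim (X.presheaf.stalk x) (F.presheaf.stalk x) =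
      topologicalKrullDim ↥{t : X | t ∈ CohB1.support F ∧ t ⤳ x} := by
  haveI : QuasiSober ↥{t : X | t ∈ CohB1.support F ∧ t ⤳ x} := quasiSober_gen _ hcl x
  apply le_antisymm
  · unfold Module.supportDim Order.krullDim
    apply iSup_le
    intro p
    let c : Fin (p.length + 1) → X := fun i => X.fromSpecStalk x (p i).1
    have hc : SChain p.length c := by
      intro i
      have hlt : p i.castSucc < p i.succ := p.step i
      have hlt' : (p i.castSucc).1 < (p i.succ).1 := hlt
      constructor
      · exact (fromSpecStalk_specializes_iff x _ _).mpr hlt'.le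
      · intro h
        exact hlt'.not_ge ((fromSpecStalk_specializes_iff x _ _).mp h)
    refine le_dim_of_chain_mem _ c hc (fun i => ⟨?_, ?_⟩)
    · exact (fromSpecStalk_mem_support_iff F hU hloc x hx _).mpr (p i).2
    · have : c i ∈ Set.range (X.fromSpecStalk x) := ⟨_, rfl⟩
      rw [Scheme.range_fromSpecStalk] at this
      exact this
  · refine dim_le_of_chains_mem _ _ ?_
    intro m c hc hmem
    have hr : ∀ i, ∃ 𝔭 : PrimeSpectrum (X.presheaf.stalk x), X.fromSpecStalk x 𝔭 = c i := by
      intro i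
      have : c i ∈ Set.range (X.fromSpecStalk x) := by
        rw [Scheme.range_fromSpecStalk]
        exact (hmem i).2
      exact this
    choose 𝔭 h𝔭 using hr
    have hsupp : ∀ i, 𝔭 i ∈ Module.support (X.presheaf.stalk x) (F.presheaf.stalk x) := by
      intro i
      rw [← fromSpecStalk_mem_support_iff F hU hloc x hx, h𝔭]
      exact (hmem i).1
    let g : Fin (m + 1) → ↥(Module.support (X.presheaf.stalk x) (F.presheaf.stalk x)) :=
      fun i => ⟨𝔭 i, hsupp i⟩
    have hg : StrictMono g := by
      rw [Fin.strictMono_iff_lt_succ]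
      intro i
      show 𝔭 i.castSucc < 𝔭 i.succ
      obtain ⟨h1, h2⟩ := hc i
      rw [← h𝔭, ← h𝔭, fromSpecStalk_specializes_iff] at h1 h2
      exact lt_of_le_not_ge h1 h2
    exact Order.LTSeries.length_le_krullDim (LTSeries.mk m g hg)

end Groth.Agent.Lib.Helper24.JacDim
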