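import Mathlib
import Groth.Agent.Lib.Helper24.FibreDim.Scheme
import Groth.Agent.Lib.Helper24.Cat.UCScheme
import Groth.Agent.Lib.Helper24.Loc.EssFTCatenary

/-!
# Closed points of schemes locally of finite type over a Jacobson scheme; universally catenary
local rings (helper24)
-/

set_option autoImplicit false
set_option linter.style.haveILetI false
universe u
open AlgebraicGeometry CategoryTheory TopologicalSpace Topology
open Groth.Agent.Lib.Helper7 Groth.Agent.Lib.lead Groth.Agent.Lib.Helper24.FibreDim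

namespace Groth.Agent.Lib.Helper24.JacDim

variable {Y S : Scheme.{u}}

/-- A closed point of a scheme locally of finite type over a Jacobson scheme maps to a closed point,
with algebraic residue field extension. -/
theorem tr_eq_zero_of_isClosed (q : Y ⟶ S) [LocallyOfFiniteType q] [JacobsonSpace S] (y : Y)
    (hy : IsClosed ({y} : Set Y)) : IsClosed ({q y} : Set S) ∧ tr q y = 0 := by
  refine ⟨q.closePoints_subset_preimage_closedPoints hy, ?_⟩
  obtain ⟨V, hV, U, hU, e, hyU⟩ := exists_chart q y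
  letI : Algebra Γ(S, V) Γ(Y, U) := (q.appLE V U e).hom.toAlgebra
  have halg : algebraMap Γ(S, V) Γ(Y, U) = (q.appLE V U e).hom := rfl
  haveI : Algebra.FiniteType Γ(S, V) Γ(Y, U) := q.finiteType_appLE hV hU e
  set p : Ideal Γ(S, V) := (hV.primeIdealOf ⟨q y, e hyU⟩).asIdeal with hp
  set P : Ideal Γ(Y, U) := (hU.primeIdealOf ⟨y, hyU⟩).asIdeal with hP
  haveI : P.LiesOver p := ResTrdegBridge.liesOver_primeIdealOf q y hV hU e hyU (e hyU) halg
  haveI : p.IsPrime := (hV.primeIdealOf ⟨q y, e hyU⟩).isPrime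
  haveI : P.IsPrime := (hU.primeIdealOf ⟨y, hyU⟩).isPrime
  have h1 := trdeg_chart q hV hU e y hyU halg p hp
  -- `P` is maximal
  have hcl' : IsClosed ({hU.primeIdealOf ⟨y, hyU⟩} : Set (PrimeSpectrum Γ(Y, U))) := by
    have h3 : IsClosed (hU.fromSpec ⁻¹' ({y} : Set Y)) := hy.preimage hU.fromSpec.continuous
    have h2 : (hU.fromSpec ⁻¹' ({y} : Set Y) : Set (Spec Γ(Y, U))) =
        ({(hU.primeIdealOf ⟨y, hyU⟩ : Spec Γ(Y, U))} : Set (Spec Γ(Y, U))) := by
      refine Set.ext fun z => ⟨fun h => ?_, fun h => ?_⟩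
      · refine Set.mem_singleton_iff.mpr ?_
        apply hU.fromSpec.isOpenEmbedding.injective
        have h' : hU.fromSpec z = y := Set.mem_singleton_iff.mp h
        rw [h']
        exact (hU.fromSpec_primeIdealOf ⟨y, hyU⟩).symm
      · have h' : z = hU.primeIdealOf ⟨y, hyU⟩ := Set.mem_singleton_iff.mp h
        refine Set.mem_preimage.mpr (Set.mem_singleton_iff.mpr ?_)
        rw [h']
        exact hU.fromSpec_primeIdealOf ⟨y, hyU⟩
    rw [h2] at h3
    exact h3
  haveI hmax : P.IsMaximal := (PrimeSpectrum.isClosed_singleton_iff_isMaximal _).mp hcl'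
  -- the base ring is Jacobson
  haveI : JacobsonSpace (Spec Γ(S, V)) :=
    JacobsonSpace.of_isOpenEmbedding hV.fromSpec.isOpenEmbedding
  haveI : IsJacobsonRing Γ(S, V) := PrimeSpectrum.isJacobsonRing_iff_jacobsonSpace.mpr ‹_›
  haveI : IsJacobsonRing (Γ(S, V) ⧸ p) :=
    isJacobsonRing_of_surjective ⟨Ideal.Quotient.mk p, Ideal.Quotient.mk_surjective⟩
  letI : Field (Γ(Y, U) ⧸ P) := Ideal.Quotient.field P
  haveI : Algebra.FiniteType (Γ(S, V) ⧸ p) (Γ(Y, U) ⧸ P) := NonDomainDim.finiteType_quotient p P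
  haveI : Module.Finite (Γ(S, V) ⧸ p) (Γ(Y, U) ⧸ P) :=
    finite_of_finite_type_of_isJacobsonRing _ _
  haveI : Algebra.IsAlgebraic (Γ(S, V) ⧸ p) (Γ(Y, U) ⧸ P) := Algebra.IsAlgebraic.of_finite _ _
  have h5 : Algebra.trdeg (Γ(S, V) ⧸ p) (Γ(Y, U) ⧸ P) = 0 := trdeg_eq_zero
  rw [h5] at h1
  exact_mod_cast h1.symm

/-- The local rings of a scheme locally of finite type over a scheme with universally catenary
local rings are universally catenary. -/
theorem uc_stalk_of_locallyOfFiniteType (q : Y ⟶ S) [LocallyOfFiniteType q]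
    [IsLocallyNoetherian S]
    (h2 : ∀ s : S, CAlg.IsUniversallyCatenary (S.presheaf.stalk s)) (y : Y) :
    CAlg.IsUniversallyCatenary (Y.presheaf.stalk y) := by
  obtain ⟨V, hV, U, hU, e, hyU⟩ := exists_chart q y
  letI : Algebra Γ(S, V) Γ(Y, U) := (q.appLE V U e).hom.toAlgebra
  haveI : Algebra.FiniteType Γ(S, V) Γ(Y, U) := q.finiteType_appLE hV hU e
  have hA : CAlg.IsUniversallyCatenary Γ(S, V) := UCScheme.uc_sections S h2 ⟨V, hV⟩
  have hB : CAlg.IsUniversallyCatenary Γ(Y, U) := EssFTCat.main Γ(S, V) Γ(Y, U) hA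
  letI := TopCat.Presheaf.algebra_section_stalk Y.presheaf (⟨y, hyU⟩ : U)
  haveI : IsLocalization.AtPrime (Y.presheaf.stalk y) (hU.primeIdealOf ⟨y, hyU⟩).asIdeal :=
    hU.isLocalization_stalk ⟨y, hyU⟩
  haveI : Algebra.EssFiniteType Γ(Y, U) (Y.presheaf.stalk y) :=
    Algebra.EssFiniteType.of_isLocalization _ (hU.primeIdealOf ⟨y, hyU⟩).asIdeal.primeCompl
  exact EssFTCat.main Γ(Y, U) (Y.presheaf.stalk y) hB

end Groth.Agent.Lib.Helper24.JacDim
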