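import Mathlib
import Groth.Agent.Lib.Helper24.JacDim.Base
import Groth.Agent.Lib.Helper26.CatOrder2

/-!
# The dimension function on a Jacobson universally catenary scheme with equidimensional components
(helper24)
-/

set_option autoImplicit false
set_option linter.style.haveILetI false
universe u
open AlgebraicGeometry CategoryTheory TopologicalSpace Topology
open Groth.Agent.Lib.Helper24 Groth.Agent.Lib.Helper26.CatOrder
open Groth.Agent.Lib.Helper24.DimFunKrull

namespace Groth.Agent.Lib.Helper24.JacDim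

variable (S : Scheme.{u})

theorem exists_closed_spec [JacobsonSpace S] (t : S) :
    ∃ s : S, t ⤳ s ∧ IsClosed ({s} : Set S) := by
  obtain ⟨z, hz1, hz2⟩ := nonempty_inter_closedPoints (Z := closure ({t} : Set S))
    ⟨t, subset_closure rfl⟩ isClosed_closure.isLocallyClosed
  exact ⟨z, specializes_iff_mem_closure.2 hz1, hz2⟩

section

variable [IsLocallyNoetherian S] [JacobsonSpace S]
  (h2 : ∀ s : S, CAlg.IsUniversallyCatenary (S.presheaf.stalk s))
  (h3 : ∀ S' ∈ irreducibleComponents (S : Type u), ∀ s ∈ S', IsClosed ({s} : Set S) →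
    topologicalKrullDim (↥S' : Type u) = topologicalKrullDim ↥{t : S | t ∈ S' ∧ t ⤳ s})

include h2 in
theorem cod_fin_add :
    (∀ a b : IrreducibleCloseds S, a ≤ b → cod a b ≠ ⊤) ∧
      (∀ a b c : IrreducibleCloseds S, a ≤ b → b ≤ c → cod a c = cod a b + cod b c) := by
  have hcat : PtTop.IsCatenarySpace S := UCScheme.backward S h2 S (𝟙 S) inferInstance
  exact cat_iff.mp hcat

include h2 h3 in
/-- The codimension of a closed point in the closure of `t` does not depend on the closed point. -/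
theorem cod_closed_indep (t s s' : S) (hs : t ⤳ s) (hs' : t ⤳ s') (hsc : IsClosed ({s} : Set S))
    (hsc' : IsClosed ({s'} : Set S)) :
    cod (cl s) (cl t) = cod (cl s') (cl t) := by
  obtain ⟨hfin, hadd⟩ := cod_fin_add S h2
  obtain ⟨Z, hZ, hsub⟩ := exists_mem_irreducibleComponents_subset_of_isIrreducible
    (closure ({t} : Set S)) isIrreducible_singleton.closure
  let T' : IrreducibleCloseds S := ⟨Z, hZ.1, isClosed_of_mem_irreducibleComponents Z hZ⟩
  have htT' : cl t ≤ T' := hsub
  have hsT : cl s ≤ cl t := cl_le_cl_iff.mpr hs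
  have hs'T : cl s' ≤ cl t := cl_le_cl_iff.mpr hs'
  have hsZ : s ∈ Z := hsub (specializes_iff_mem_closure.mp hs)
  have hs'Z : s' ∈ Z := hsub (specializes_iff_mem_closure.mp hs')
  have e1 := h3 Z hZ s hsZ hsc
  have e2 := h3 Z hZ s' hs'Z hsc'
  have e1' : topologicalKrullDim (↥Z : Type u) = ((cod (cl s) T' : ℕ∞) : WithBot ℕ∞) :=
    e1.trans (dim_gen_eq_cod T' s hsZ (hfin _ _ (hsT.trans htT')))
  have e2' : topologicalKrullDim (↥Z : Type u) = ((cod (cl s') T' : ℕ∞) : WithBot ℕ∞) :=
    e2.trans (dim_gen_eq_cod T' s' hs'Z (hfin _ _ (hs'T.trans htT')))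
  have e3 : cod (cl s) T' = cod (cl s') T' := by
    have := e1'.symm.trans e2'
    exact_mod_cast this
  rw [hadd _ _ _ hsT htT', hadd _ _ _ hs'T htT'] at e3
  exact (ENat.add_left_injective_of_ne_top (hfin _ _ htT')) e3

/-- The dimension function. -/
noncomputable def delta (t : S) : ℤ :=
  ((cod (cl (exists_closed_spec S t).choose) (cl t)).toNat : ℤ)

include h2 h3 in
theorem delta_eq (t s : S) (hs : t ⤳ s) (hsc : IsClosed ({s} : Set S)) :
    delta S t = ((cod (cl s) (cl t)).toNat : ℤ) := by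
  unfold delta
  obtain ⟨h1, h1c⟩ := (exists_closed_spec S t).choose_spec
  rw [cod_closed_indep S h2 h3 t _ s h1 hs h1c hsc]

include h2 h3 in
theorem delta_closed (s : S) (hsc : IsClosed ({s} : Set S)) : delta S s = 0 := by
  rw [delta_eq S h2 h3 s s specializes_rfl hsc, cod_self]
  rfl

include h2 h3 in
theorem isDimFun_delta : Cyc.IsDimFun S (delta S) := by
  obtain ⟨hfin, hadd⟩ := cod_fin_add S h2
  intro x y hxy hne
  obtain ⟨s, hys, hsc⟩ := exists_closed_spec S y
  have hxs : x ⤳ s := hxy.trans hys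
  have hsy : cl s ≤ cl y := cl_le_cl_iff.mpr hys
  have hyx : cl y ≤ cl x := cl_le_cl_iff.mpr hxy
  have hlt : cl y < cl x := by
    refine lt_of_le_of_ne hyx fun h => hne ?_
    have := congrArg gp h
    rw [gp_cl, gp_cl] at this
    exact this.symm
  rw [delta_eq S h2 h3 x s hxs hsc, delta_eq S h2 h3 y s hys hsc, hadd _ _ _ hsy hyx,
    ENat.toNat_add (hfin _ _ hsy) (hfin _ _ hyx)]
  have hpos : 1 ≤ (cod (cl y) (cl x)).toNat := by
    have h1 : ((pair hlt).length : ℕ∞) ≤ cod (cl y) (cl x) :=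
      le_cod (pair hlt) (pair_head hlt) (pair_last hlt).le
    rw [pair_length] at h1
    obtain ⟨n, hn⟩ := ENat.ne_top_iff_exists.mp (hfin _ _ hyx)
    rw [← hn] at h1 ⊢
    rw [ENat.toNat_natCast]
    exact_mod_cast h1
  refine ⟨by push_cast; omega, fun himm => ?_⟩
  have hcov : cl y ⋖ cl x := by
    refine ⟨hlt, fun T hT1 hT2 => ?_⟩
    have h1 : x ⤳ gp T := by
      rw [← cl_le_cl_iff, cl_gp]
      exact hT2.le
    have h2 : gp T ⤳ y := by
      rw [← cl_le_cl_iff, cl_gp]
      exact hT1.le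
    rcases himm (gp T) h1 h2 with h | h
    · rw [← cl_gp T, h] at hT2
      exact lt_irrefl _ hT2
    · rw [← cl_gp T, h] at hT1
      exact lt_irrefl _ hT1
  rw [cod_covBy hcov]
  push_cast
  rfl

end

end Groth.Agent.Lib.Helper24.JacDim
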