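import Mathlib
import Groth.Agent.Lib.Helper24.JacDim.LocalDimY
import Groth.Agent.Lib.Helper24.JacDim.DimFun
import Groth.Agent.Lib.Helper24.JacDim.Closed
import Groth.Agent.Lib.Helper24.JacDim.SuppStalk
import Groth.Agent.Lib.lead.DimFunPullback
import Groth.Agent.S0020

/-!
# EGA IV 10.8.x: `dim cl{x} + dim F_x = dim_x Supp F` over a Jacobson universally catenary base
(helper24)
-/

set_option autoImplicit false
set_option linter.style.haveILetI false
universe u
open AlgebraicGeometry CategoryTheory TopologicalSpace Topology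
open Groth.Agent.Lib.lead Groth.Agent.Lib.Helper24.FibreDim
open Groth.Agent.Lib.Helper28.QCohLoc

namespace Groth.Agent.Lib.Helper24.JacDim

/-- The dimension function on a scheme locally of finite type over `S`. -/
noncomputable def deltaOver {X S : Scheme.{u}} [JacobsonSpace S] (g : X ⟶ S)
    [LocallyOfFiniteType g] (x : X) : ℤ :=
  delta S (g x) + (tr g x : ℤ)

theorem dimData_over {X S : Scheme.{u}} [IsLocallyNoetherian S]
    [JacobsonSpace S] (h2 : ∀ s : S, CAlg.IsUniversallyCatenary (S.presheaf.stalk s))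
    (h3 : ∀ S' ∈ irreducibleComponents (S : Type u), ∀ s ∈ S', IsClosed ({s} : Set S) →
      topologicalKrullDim (↥S' : Type u) = topologicalKrullDim ↥{t : S | t ∈ S' ∧ t ⤳ s})
    (g : X ⟶ S) [LocallyOfFiniteType g] :
    IsLocallyNoetherian X ∧ DimData X (deltaOver g) := by
  haveI : JacobsonSpace X := LocallyOfFiniteType.jacobsonSpace g
  haveI : IsLocallyNoetherian X := LocallyOfFiniteType.isLocallyNoetherian g
  refine ⟨inferInstance, ?_⟩
  have hS : Cyc.IsSetup S (delta S) := ⟨inferInstance, h2, isDimFun_delta S h2 h3⟩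
  have hc : Cyc.DeltaCompat g (deltaOver g) (delta S) := fun y => ⟨tr g y, tr_spec g y, rfl⟩
  have huc := uc_stalk_of_locallyOfFiniteType g h2
  have hX : Cyc.IsSetup X (deltaOver g) :=
    ⟨inferInstance, huc, DimFunPullback.main g (delta S) hS (deltaOver g) hc⟩
  refine DimData.of_setup X (deltaOver g) hX ?_
  intro y hy
  obtain ⟨hc, ht⟩ := tr_eq_zero_of_isClosed g y hy
  simp only [deltaOver, ht, delta_closed S h2 h3 (g y) hc]
  rfl

theorem main4889 {X S : Scheme.{u}} [IsLocallyNoetherian S]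
    [JacobsonSpace S] (h2 : ∀ s : S, CAlg.IsUniversallyCatenary (S.presheaf.stalk s))
    (h3 : ∀ S' ∈ irreducibleComponents (S : Type u), ∀ s ∈ S', IsClosed ({s} : Set S) →
      topologicalKrullDim (↥S' : Type u) = topologicalKrullDim ↥{t : S | t ∈ S' ∧ t ⤳ s})
    (g : X ⟶ S) [LocallyOfFiniteType g] (F : X.Modules) (hF : Coh.IsCoh F) (x : X)
    (hx : x ∈ CohB1.support F) :
    topologicalKrullDim ↥(closure ({x} : Set X)) +
        Module.supportDim ↑(X.presheaf.stalk x) ↑(F.presheaf.stalk x) =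
      FlatMor.localDim ↥(CohB1.support F) ⟨x, hx⟩ := by
  obtain ⟨hN, hD⟩ := dimData_over h2 h3 g
  haveI := hN
  haveI : F.IsQuasicoherent := hF.1
  have hcl : IsClosed (CohB1.support F) := Groth.Agent.S0020.result X F hF.2
  obtain ⟨_, ⟨U, hU, rfl⟩, hxU, -⟩ :=
    X.isBasis_affineOpens.exists_subset_of_mem_open (Set.mem_univ x) isOpen_univ
  have hloc : IsLocOn F U := isLocOn_of_isQuasicoherent F hU
  rw [localDim_eq_NN hD _ hcl x hx, ← dim_closure_add_dim_gen_eq_NN hD _ hcl x hx,
    supportDim_stalk_eq F hU hloc hcl x hxU]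

end Groth.Agent.Lib.Helper24.JacDim
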