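import Mathlib
import Groth.Agent.Lib.Helper24.JacDim.DimFun
import Groth.Agent.Lib.Helper24.JacDim.Closed
import Groth.Agent.Lib.Helper24.Cat.JacobsonDim
import Groth.Agent.Lib.Helper24.FibreDim.Formula
import Groth.Agent.Lib.lead.DimFunPullback
import Groth.Agent.Lib.lead.VarGenDim
import Groth.Agent.Lib.Helper18.GenFin

/-!
# EGA IV 10.6.1-type formula: `dim X = dim Y + dim (generic fibre)` over a Jacobson universally
catenary base with equidimensional components (helper24)
-/

set_option autoImplicit false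
set_option linter.style.haveILetI false
universe u
open AlgebraicGeometry CategoryTheory TopologicalSpace Topology
open Groth.Agent.Lib.Helper7 Groth.Agent.Lib.lead Groth.Agent.Lib.Helper24.FibreDim
open Groth.Agent.Lib.Helper24 Groth.Agent.Lib.Helper18

namespace Groth.Agent.Lib.Helper24.JacDim

/-- Dimension of an irreducible scheme locally of finite type over `S` via the dimension function. -/
theorem dim_eq_of_setup (X : Scheme.{u}) [JacobsonSpace X] [IrreducibleSpace X] (δ : X → ℤ)
    (hX : Cyc.IsSetup X δ) (h0 : ∀ x : X, IsClosed ({x} : Set X) → δ x = 0) :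
    topologicalKrullDim (X : Type u) = ((δ (genericPoint X)).toNat : WithBot ℕ∞) ∧
      0 ≤ δ (genericPoint X) := by
  obtain ⟨⟨h1, h2⟩, -⟩ := JacobsonDim.main X δ hX h0 (genericPoint X)
  refine ⟨?_, h2⟩
  rw [← h1]
  exact (VarGenDim.dim_of_closure_eq_univ (genericPoint X) (genericPoint_spec X)).symm

theorem main3449 {X Y S : Scheme.{u}} [IsLocallyNoetherian S]
    [JacobsonSpace S] (h2 : ∀ s : S, CAlg.IsUniversallyCatenary (S.presheaf.stalk s))
    (h3 : ∀ S' ∈ irreducibleComponents (S : Type u), ∀ s ∈ S', IsClosed ({s} : Set S) →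
      topologicalKrullDim (↥S' : Type u) = topologicalKrullDim ↥{t : S | t ∈ S' ∧ t ⤳ s})
    (p : X ⟶ S) (q : Y ⟶ S) [LocallyOfFiniteType p] [LocallyOfFiniteType q] (f : X ⟶ Y)
    (hf : f ≫ q = p)
    [IrreducibleSpace X] [IrreducibleSpace Y] [IsDominant f] :
    topologicalKrullDim (X : Type u) =
      topologicalKrullDim (Y : Type u) + topologicalKrullDim ↥(f.fiber (genericPoint Y)) := by
  haveI : LocallyOfFiniteType (f ≫ q) := hf ▸ inferInstance
  haveI : LocallyOfFiniteType f := locallyOfFiniteType_of_comp f q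
  haveI : JacobsonSpace Y := LocallyOfFiniteType.jacobsonSpace q
  haveI : JacobsonSpace X := LocallyOfFiniteType.jacobsonSpace f
  haveI : IsLocallyNoetherian Y := LocallyOfFiniteType.isLocallyNoetherian q
  haveI : IsLocallyNoetherian X := LocallyOfFiniteType.isLocallyNoetherian f
  -- the dimension functions
  have hS : Cyc.IsSetup S (delta S) := ⟨inferInstance, h2, isDimFun_delta S h2 h3⟩
  set δY : Y → ℤ := fun y => delta S (q y) + (tr q y : ℤ) with hδY
  have hcY : Cyc.DeltaCompat q δY (delta S) := fun y => ⟨tr q y, tr_spec q y, rfl⟩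
  have hucY := uc_stalk_of_locallyOfFiniteType q h2
  have hY : Cyc.IsSetup Y δY := ⟨inferInstance, hucY, DimFunPullback.main q (delta S) hS δY hcY⟩
  set δX : X → ℤ := fun x => δY (f x) + (tr f x : ℤ) with hδX
  have hcX : Cyc.DeltaCompat f δX δY := fun x => ⟨tr f x, tr_spec f x, rfl⟩
  have hucX := uc_stalk_of_locallyOfFiniteType f hucY
  have hX : Cyc.IsSetup X δX := ⟨inferInstance, hucX, DimFunPullback.main f δY hY δX hcX⟩
  -- vanishing at closed points
  have h0Y : ∀ y : Y, IsClosed ({y} : Set Y) → δY y = 0 := by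
    intro y hy
    obtain ⟨hc, ht⟩ := tr_eq_zero_of_isClosed q y hy
    simp only [hδY, ht, delta_closed S h2 h3 (q y) hc]
    rfl
  have h0X : ∀ x : X, IsClosed ({x} : Set X) → δX x = 0 := by
    intro x hx
    obtain ⟨hc, ht⟩ := tr_eq_zero_of_isClosed f x hx
    simp only [hδX, ht, h0Y (f x) hc]
    rfl
  obtain ⟨hdY, hposY⟩ := dim_eq_of_setup Y δY hY h0Y
  obtain ⟨hdX, -⟩ := dim_eq_of_setup X δX hX h0X
  have hgen : f (genericPoint X) = genericPoint Y :=
    GenFin.map_genericPoint_of_dense f f.denseRange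
  rw [hdX, hdY, dim_fibre_generic f (genericPoint Y) hgen]
  have h5 : δX (genericPoint X) = δY (genericPoint Y) + (tr f (genericPoint X) : ℤ) := by
    simp only [hδX, hgen]
  rw [h5]
  obtain ⟨n, hn⟩ := Int.eq_ofNat_of_zero_le hposY
  rw [hn]
  have h6 : ((n : ℤ) + (tr f (genericPoint X) : ℤ)).toNat = n + tr f (genericPoint X) := by
    omega
  rw [h6, Int.toNat_natCast]
  push_cast
  rfl

end Groth.Agent.Lib.Helper24.JacDim
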