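import Mathlib
import Groth.Agent.Lib.Helper24.JacDim.LocalDimY
import Groth.Agent.Lib.Helper24.JacDim.DimFun

/-!
# EGA IV 10.6.x: local dimension of closed subsets of Jacobson universally catenary schemes with
equidimensional components (helper24)
-/

set_option autoImplicit false
set_option linter.style.haveILetI false
universe u
open AlgebraicGeometry CategoryTheory TopologicalSpace Topology

namespace Groth.Agent.Lib.Helper24.JacDim

theorem dimData_delta (X : Scheme.{u}) [IsLocallyNoetherian X] [JacobsonSpace X]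
    (h2 : ∀ x : X, CAlg.IsUniversallyCatenary (X.presheaf.stalk x))
    (h3 : ∀ X' ∈ irreducibleComponents (X : Type u), ∀ x ∈ X', IsClosed ({x} : Set X) →
      topologicalKrullDim (↥X' : Type u) = topologicalKrullDim ↥{t : X | t ∈ X' ∧ t ⤳ x}) :
    DimData X (delta X) :=
  DimData.of_setup X (delta X) ⟨inferInstance, h2, isDimFun_delta X h2 h3⟩
    (delta_closed X h2 h3)

theorem main4888 (X : Scheme.{u}) [IsLocallyNoetherian X] [JacobsonSpace X]
    (h2 : ∀ x : X, CAlg.IsUniversallyCatenary (X.presheaf.stalk x))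
    (h3 : ∀ X' ∈ irreducibleComponents (X : Type u), ∀ x ∈ X', IsClosed ({x} : Set X) →
      topologicalKrullDim (↥X' : Type u) = topologicalKrullDim ↥{t : X | t ∈ X' ∧ t ⤳ x})
    (Y : Set X) (hY : IsClosed Y) (x : X) (hx : x ∈ Y) :
    FlatMor.localDim ↥Y ⟨x, hx⟩ =
        topologicalKrullDim ↥(closure ({x} : Set X)) +
          topologicalKrullDim ↥{t : X | t ∈ Y ∧ t ⤳ x} ∧
      FlatMor.localDim ↥Y ⟨x, hx⟩ =
        ⨆ C ∈ {C : Set ↥Y | C ∈ irreducibleComponents ↥Y ∧ (⟨x, hx⟩ : ↥Y) ∈ C},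
          topologicalKrullDim ↥C ∧
      ∀ U : Set X, IsOpen U → x ∈ U →
        (∀ C ∈ irreducibleComponents ↥Y, (⟨x, hx⟩ : ↥Y) ∉ C →
          Disjoint (Subtype.val ⁻¹' U) C) →
        topologicalKrullDim ↥(U ∩ Y) = FlatMor.localDim ↥Y ⟨x, hx⟩ := by
  have hD := dimData_delta X h2 h3
  refine ⟨?_, ?_, ?_⟩
  · rw [localDim_eq_NN hD Y hY x hx, dim_closure_add_dim_gen_eq_NN hD Y hY x hx]
  · rw [localDim_eq_NN hD Y hY x hx, iSup_components_eq_NN hD Y hY x hx]
  · intro U hU hxU hdisj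
    rw [localDim_eq_NN hD Y hY x hx, dim_inter_eq_NN hD Y hY x hx U hU hxU hdisj]

end Groth.Agent.Lib.Helper24.JacDim
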